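import Cfsg.Agent.Spor.Chk2
import Cfsg.Agent.Spor.Ly3906.D0
import Cfsg.Agent.Spor.PX0

set_option autoImplicit false
set_option maxRecDepth 100000000
set_option Elab.async false
noncomputable section

namespace Cfsg.Agent.Spor.Ly3906.X

def W1 : List (List Nat) := [[4, 2, 4, 4, 1, 4, 1, 3], [3, 3, 5, 4, 5, 4], [7]]

def M2 : Nat := nat_lit 0x1000010002c200000018000000040004000000000042040810003008000000800010000000800000004000200100000000100021100200000000000000009000000000000000300e000200000000000904000000000000000000000000000000200000100000000000040000000001000000000000000020008000c0000000441000000a004000000000081001300000000000000000000000004000000000000000000800000010000000000080120000400140000200005000280000000000000000081000000000041000000000000000100000000000000000000000000000000000001000000000000000000000000000000b400000008400000000000000000000022008000c000000000004000000000000000000400000000008000000000100000000004000000000000000640e80000002000000000000000010010000000000000200000000000000000000000000000000000002020000000000000100000000000040000040000000000c0000000000000000000000000000001110004000020000000000000000000000000000000000000000000000000000010000000000200000000000000000000000000009000000000000000000000010000000000000000000000020000000000000000000000000000000000000000000000003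

def U : Tab := ⟨[n0, n1, n2, n3, n4, n5, n6, n7, n8], [⟨0, false, 0, 0, []⟩, ⟨0, false, 0, 0, []⟩, ⟨0, true, 0, 0, []⟩, ⟨1, false, 0, 0, []⟩, ⟨1, true, 0, 0, []⟩, ⟨2, false, 0, 0, []⟩, ⟨2, true, 0, 0, []⟩, ⟨3, false, 0, 0, []⟩, ⟨3, true, 0, 0, []⟩, ⟨4, false, 0, 0, []⟩, ⟨4, true, 0, 0, []⟩, ⟨5, false, 0, 0, []⟩, ⟨5, true, 0, 0, []⟩, ⟨6, false, 0, 0, []⟩, ⟨6, true, 0, 0, []⟩, ⟨7, false, 0, 0, []⟩, ⟨7, true, 0, 0, []⟩, ⟨8, false, 0, 0, []⟩, ⟨8, true, 0, 0, []⟩]⟩

end Cfsg.Agent.Spor.Ly3906.X
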